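import Cfsg.Agent.MQ.Tri.Main
import Cfsg.Agent.MQ.A.Glob.Main
import Cfsg.Agent.H163.PG.PslAut
import Cfsg.Agent.H60.LThreeFour.Main
import Cfsg.Agent.H133.USixTwo
import Cfsg.Agent.OddHalf.D9.FFour.Out_m3
import Cfsg.Agent.KFacts.Mult.TwESixTwo
import Cfsg.Agent.MQ.S.E62G.Mdl
import Cfsg.Agent.Prune
set_option linter.all false
prune_inst 0x7f00000000000000000000000000000000000000000000000000000000000000000000000000000000000000000000000000000000000000000000000000000000000000000000000000000000000000003fffffffffffffffffffffffffffbeffbdffffffff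
open scoped Cfsg.Agent.FastGrp

-- part: MO/X/XC
section
/-!
# MO, the exceptional covers of `L₃(4)`, `U₆(2)`, `²E₆(2)` have no outer automorphisms of order three (helper50)

The proofs are those of `BH/RowO/XC.lean` (helper67), with fewer imports and for all cyclic centres of even order.

* `NL δ` : `δ` does not lift to a double cover; `N3 S` : `3 ∤ |Out X|` for the covers with a cyclic centre of even order;
* `n3_of`, `N3.congr`, `N3.outC`; `n3_l34`, `n3_u62`, `n3_e62`; `outC_u62`, `outC_e62`.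
-/

set_option autoImplicit false
set_option linter.unusedSectionVars false

namespace Cfsg.Agent.MO.XC

open Cfsg Subgroup Cfsg.Agent.MO.S Cfsg.Agent.KFacts.MulDef Cfsg.Agent.KFacts.MulTwo

section gen

variable {K S : Type} [Group K] [Group S]

/-- `δ` does not lift to a perfect double cover -/
def NL (δ : MulAut S) : Prop := ∀ (L : Type) [Group L] [Finite L] (π : L →* S) (c : L), Dbl π c →
  ∀ α : MulAut L, ¬ ∀ x, π (α x) = δ (π x)

theorem map_center (α : MulAut K) {z : K} (hz : z ∈ center K) : α z ∈ center K := mem_center_iff.2 fun g => by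
  obtain ⟨g, rfl⟩ := α.surjective g
  rw [← map_mul, ← map_mul, mem_center_iff.1 hz]

/-- the squares of the central elements -/
def Sq (K : Type) [Group K] : Subgroup K where
  carrier := {x | ∃ y ∈ center K, y * y = x}
  one_mem' := ⟨1, one_mem _, mul_one 1⟩
  mul_mem' := by
    rintro _ _ ⟨a, ha, rfl⟩ ⟨b, hb, rfl⟩
    refine ⟨a * b, mul_mem ha hb, ?_⟩
    rw [mul_assoc, ← mul_assoc b, mem_center_iff.1 ha b]
    simp only [mul_assoc]
  inv_mem' := by
    rintro _ ⟨a, ha, rfl⟩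
    exact ⟨a⁻¹, inv_mem ha, (mul_inv_rev a a).symm⟩

theorem descend [Finite K] {σ : K →* S} {m : ℕ} (c : Cv m σ) (h2 : 2 ∣ m) {δ : MulAut S} (h : NL δ)
    (α : MulAut K) : ¬ ∀ x, σ (α x) = δ (σ x) := fun hα => by
  obtain ⟨hs, hk, hm', hc, hK⟩ := c
  have hle : Sq K ≤ center K := fun _ ⟨a, ha, e⟩ => e ▸ mul_mem ha ha
  have hN : (Sq K).Normal := ⟨fun n hn g => by
    rw [mem_center_iff.1 (hle hn) g, mul_inv_cancel_right]
    exact hn⟩
  have hm : ∀ (β : MulAut K), ∀ x ∈ Sq K, β x ∈ Sq K := fun β _ ⟨a, ha, e⟩ =>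
    ⟨β a, map_center β ha, by rw [← map_mul, e]⟩
  obtain ⟨z, hz⟩ := hc.exists_generator
  have hz2 : z.1 ∉ Sq K := fun ⟨a, ha, e⟩ => by
    obtain ⟨n, hn⟩ := hz ⟨a, ha⟩
    have h3 : z ^ (2 * n - 1) = 1 := by
      rw [zpow_sub_one, two_mul, zpow_add, mul_inv_eq_one]
      exact Subtype.ext ((congrArg (fun x : center K => x.1 * x.1) hn).trans e)
    have h4 := orderOf_dvd_iff_zpow_eq_one.2 h3
    rw [orderOf_eq_card_of_forall_mem_zpowers hz, hm'] at h4
    have h5 := (Int.natCast_dvd_natCast.2 h2).trans h4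
    omega
  have hzz : (z.1 : K ⧸ Sq K) * (z.1 : K ⧸ Sq K) = 1 := (QuotientGroup.eq_one_iff (z.1 * z.1)).2 ⟨z.1, z.2, rfl⟩
  refine h (K ⧸ Sq K) (QuotientGroup.lift (Sq K) σ (hle.trans hk.ge)) (z.1 : K ⧸ Sq K)
    ⟨⟨fun e => hz2 ((QuotientGroup.eq_one_iff _).1 e), hzz, fun x => ?_, ?_⟩, fun y => ?_, fun x => ?_⟩
    (QuotientGroup.congr (Sq K) (Sq K) α (le_antisymm (map_le_iff_le_comap.2 (hm α)) fun x hx =>
      ⟨α⁻¹ x, hm _ x hx, α.apply_symm_apply x⟩)) fun x => ?_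
  · obtain ⟨x, rfl⟩ := QuotientGroup.mk_surjective x
    rw [← QuotientGroup.mk_mul, ← QuotientGroup.mk_mul, mem_center_iff.1 z.2 x]
  · have h3 := map_commutator (⊤ : Subgroup K) ⊤ (QuotientGroup.mk' (Sq K))
    rw [← commutator_def, hK, map_top_of_surjective _ (QuotientGroup.mk'_surjective _)] at h3
    exact h3.symm
  · obtain ⟨x, rfl⟩ := hs y
    exact ⟨x, rfl⟩
  · obtain ⟨x, rfl⟩ := QuotientGroup.mk_surjective x
    refine ⟨fun e => ?_, ?_⟩
    · obtain ⟨n, hn⟩ := hz ⟨x, hk.le e⟩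
      have h3 : (x : K ⧸ Sq K) = (z.1 : K ⧸ Sq K) ^ n := by
        rw [← QuotientGroup.mk_zpow]
        exact congrArg _ (congrArg Subtype.val hn).symm
      rw [h3]
      rcases Int.even_or_odd' n with ⟨m, rfl | rfl⟩
      · exact .inl (by rw [zpow_mul, zpow_two, hzz, one_zpow])
      · exact .inr (by rw [zpow_add_one, zpow_mul, zpow_two, hzz, one_zpow, one_mul])
    · rintro (e | e)
      · rw [e, map_one]
      · rw [e]
        exact hk.ge z.2
  · obtain ⟨x, rfl⟩ := QuotientGroup.mk_surjective x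
    exact hα x

theorem NL.conj {δ : MulAut S} (h : NL δ) (γ : MulAut S) : NL (γ * δ * γ⁻¹) := fun L _ _ π c hd α hα =>
  h L (γ⁻¹.toMonoidHom.comp π) c ⟨hd.toCtr, γ⁻¹.surjective.comp hd.surj, fun x =>
    (map_eq_one_iff γ⁻¹ γ⁻¹.injective).trans (hd.ker x)⟩ α fun x => by simp only [hα x, _root_.MulEquiv.toMonoidHom_eq_coe, _root_.MonoidHom.coe_comp, _root_.MonoidHom.coe_coe, _root_.MulAut.coe_inv, _root_.Function.comp_apply, _root_.MulAut.mul_apply, _root_.MulAut.inv_apply, _root_.MulEquiv.symm_apply_apply]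

theorem sylow_three {O : Type} [Group O] [Finite O] (h9 : ¬ 9 ∣ Nat.card O) {b d : O} {k : ℕ} (hb : b ^ 3 ^ k = 1)
    (h1 : b ≠ 1) (hd : d ^ 3 = 1) : ∃ (g : O) (n : ℤ), g * d * g⁻¹ = b ^ n := by
  have : Fact (Nat.Prime 3) := ⟨Nat.prime_three⟩
  have pg : ∀ (x : O) (k : ℕ), x ^ 3 ^ k = 1 → IsPGroup 3 (zpowers x) := fun x k hx => by
    obtain ⟨j, -, hj⟩ := (Nat.dvd_prime_pow Nat.prime_three).1 (orderOf_dvd_of_pow_eq_one hx)
    exact IsPGroup.of_card (by rw [Nat.card_zpowers, hj])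
  obtain ⟨P, hP⟩ := (pg b k hb).exists_le_sylow
  obtain ⟨Q, hQ⟩ := (pg d 1 (by rwa [pow_one])).exists_le_sylow
  obtain ⟨g, hg⟩ := MulAction.exists_smul_eq O Q P
  have h2 : zpowers b = P := by
    obtain ⟨j, hj⟩ := IsPGroup.iff_card.1 P.isPGroup'
    obtain ⟨i, hi⟩ := IsPGroup.iff_card.1 (pg b k hb)
    refine eq_of_le_of_card_ge hP ?_
    have h3 : j < 2 := by
      by_contra h
      exact h9 (((pow_dvd_pow 3 (not_lt.1 h)).trans hj.symm.dvd).trans (card_subgroup_dvd_card _))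
    have h4 : i ≠ 0 := by
      rintro rfl
      exact h1 (orderOf_eq_one_iff.1 (by rw [← Nat.card_zpowers, hi, pow_zero]))
    rw [hj, hi]
    exact Nat.pow_le_pow_right (by norm_num) (by omega)
  have h3 : g * d * g⁻¹ ∈ zpowers b := by
    rw [h2, ← hg]
    rw [Sylow.coe_subgroup_smul]
    exact smul_mem_pointwise_smul d (MulAut.conj g) (Q : Subgroup O) (hQ (mem_zpowers d))
  obtain ⟨n, hn⟩ := h3
  exact ⟨g, n, hn.symm⟩

theorem cen_bot {σ : K →* S} {m : ℕ} (c : Cv m σ) : center S = ⊥ := eq_bot_iff.2 fun y hy => by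
  obtain ⟨x, rfl⟩ := c.surj y
  have h := MK.T.eq_one_of_ind σ c.ker c.perf (α := MulAut.conj x) fun g => by
    rw [MulAut.conj_apply, map_mul, map_mul, map_inv, ← mem_center_iff.1 hy, mul_inv_cancel_right]
  exact c.ker.ge (mem_center_iff.2 fun g => (mul_inv_eq_iff_eq_mul.1 (DFunLike.congr_fun h g)).symm)

variable (S) in
/-- the covers with a cyclic centre of even order have no outer automorphisms of order three -/
def N3 : Prop := ∀ (X : Type) [Group X] [Finite X] (m : ℕ) (φ : X →* S), Cv m φ → 2 ∣ m → ¬ 3 ∣ (Inn X).index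

theorem n3_of [Finite S] (h9 : ¬ 9 ∣ (Inn S).index) {δ : MulAut S} (h3 : δ ^ 3 = 1) (h : NL δ) : N3 S := by
  intro K _ _ m σ c h2 h4
  have := Fact.mk Nat.prime_three
  have : Finite (MulAut K) := Finite.of_injective (fun α : MulAut K => (α : K → K)) DFunLike.coe_injective
  obtain ⟨ρ, hρ, h5⟩ := TI.exists_rho c
  obtain ⟨w, hw⟩ := exists_prime_orderOf_dvd_card' (G := MulAut K ⧸ Inn K) 3 h4
  obtain ⟨α, rfl⟩ := QuotientGroup.mk_surjective w
  have h6 : α ^ 3 ∈ Inn K := (QuotientGroup.eq_one_iff _).1 (by rw [QuotientGroup.mk_pow, ← hw, pow_orderOf_eq_one])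
  obtain ⟨g, n, hg⟩ := sylow_three (O := MulAut S ⧸ Inn S) h9 (b := ρ α) (d := δ) (k := 1)
    (by rw [pow_one, ← QuotientGroup.mk_pow, ← map_pow, QuotientGroup.eq_one_iff]; exact h5.ge h6)
    (fun e => by
      rw [(QuotientGroup.eq_one_iff α).2 (h5.le ((QuotientGroup.eq_one_iff (ρ α)).1 e)), orderOf_one] at hw
      exact absurd hw (by decide))
    (by rw [← QuotientGroup.mk_pow, h3]; rfl)
  obtain ⟨γ, rfl⟩ := QuotientGroup.mk_surjective g
  rw [← QuotientGroup.mk_zpow, ← QuotientGroup.mk_mul, ← QuotientGroup.mk_inv, ← QuotientGroup.mk_mul, eq_comm,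
    QuotientGroup.eq] at hg
  obtain ⟨y, hy⟩ := hg
  obtain ⟨x, rfl⟩ := c.surj y
  refine descend c h2 (h.conj γ) (α ^ n * MulAut.conj x) fun g => ?_
  rw [← inv_mul_eq_iff_eq_mul.1 hy.symm |>.symm, MulAut.mul_apply, MulAut.mul_apply, ← hρ, map_zpow]
  simp only [_root_.MulAut.conj_apply, _root_.map_mul, _root_.map_inv]

theorem N3.congr {S' : Type} [Group S'] (e : S ≃* S') (h : N3 S') : N3 S := fun X _ _ m _ c => h X m _ (c.comp e)

theorem N3.index_dvd (h : N3 S) {a : ℕ} (ha : (Inn S).index ∣ 3 * a) {X : Type} [Group X] [Finite X] {m : ℕ}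
    {φ : X →* S} (c : Cv m φ) (hm : 2 ∣ m) : (Inn X).index ∣ a := by
  obtain ⟨ρ, -, h1⟩ := TI.exists_rho c
  refine (Nat.prime_three.coprime_iff_not_dvd.2 (h X m φ c hm)).symm.dvd_of_dvd_mul_left (Dvd.dvd.trans ?_ ha)
  rw [← h1, index_comap]
  exact relIndex_dvd_index_of_normal _ _

theorem N3.outC (h : N3 S) (h6 : (Inn S).index ∣ 6) {m : ℕ} (hm : 2 ∣ m) : OutC m S := fun X _ _ _ c => by
  obtain ⟨γ, hγ⟩ : Out2 X := ((Nat.dvd_prime Nat.prime_two).1 (h.index_dvd (a := 2) h6 c hm)).elim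
    (fun e => T.out2_of_inn (T.inn_of_index e)) T.out2_of_index
  exact ⟨γ, fun α _ => hγ α⟩

theorem fix {L : Type} [Group L] {π : L →* S} {c : L} (hd : Dbl π c) {α : MulAut L} {δ : MulAut S}
    (h : ∀ x, π (α x) = δ (π x)) {z : L} (hz : π z = 1) : α z = z := by
  rcases (hd.ker z).1 hz with rfl | rfl
  · exact map_one α
  · exact ((hd.ker _).1 (by rw [h, hz, map_one])).resolve_left fun e => hd.ne (α.injective (e.trans (map_one α).symm))

end gen

section l34

open Cfsg.Agent.SporadicA.FieldFour Cfsg.Agent.ONType.Psl Cfsg.Agent.H60.LThreeFour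
open Cfsg.Agent.OddHalf.D9.L34Mult (CE)

theorem dm3 : dm * dm * dm = 1 ∧ dm' * dm' * dm' = 1 := by decide +kernel

theorem del3 (x : PSL3) : del (del (del x)) = x := by
  obtain ⟨g, rfl⟩ := QuotientGroup.mk_surjective x
  refine congrArg (QuotientGroup.mk : SL3 → PSL3) (Subtype.ext ?_ : del0 (del0 (del0 g)) = g)
  show dm * (dm * (dm * g.1 * dm') * dm') * dm' = g.1
  calc _ = (dm * dm * dm) * g.1 * (dm' * dm' * dm') := by simp only [mul_assoc]
    _ = _ := by rw [dm3.1, dm3.2, one_mul, mul_one]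

/-- the diagonal automorphism -/
def dl : MulAut PSL3 := ⟨⟨del, fun x => del (del x), del3, del3⟩, del.map_mul⟩

theorem del_h : del hh = hh := congrArg (QuotientGroup.mk : SL3 → PSL3) (Subtype.ext (by
  show dm * hm * dm' = hm
  decide +kernel) : del0 H = H)

theorem del_t12 : del (t 1 2 1) = t 1 2 1 := congrArg (QuotientGroup.mk : SL3 → PSL3) (Subtype.ext (by
  show dm * tm 1 2 1 * dm' = tm 1 2 1
  decide +kernel) : del0 (T 1 2 1) = T 1 2 1)

theorem nl_dl : NL dl := fun L _ _ π c hd α hα => by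
  have C : CE π := ⟨hd.surj, fun k hk m => by
    rcases (hd.ker k).1 hk with rfl | rfl
    · rw [one_mul, mul_one]
    · exact hd.cen m⟩
  have hα' : ∀ x, π (α x) = del (π x) := hα
  have h0 : π (α.toMonoidHom C.h) = hh := (hα' _).trans (by rw [C.map_h, del_h])
  have h1 : ∀ j : Fin 3, 0 ≠ j → ∀ u, α (C.x 0 j u) = C.x 0 j (ω * u) := fun j hj u =>
    C.x_map α.toMonoidHom (.inl h0) hj hj ((hα' _).trans (by rw [C.map_x 0 j hj, del_t hj]))
  have h2 : α (C.x 1 2 1) = C.x 1 2 1 :=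
    C.x_map α.toMonoidHom (.inl h0) (by decide) (by decide) ((hα' _).trans (by rw [C.map_x 1 2 (by decide), del_t12]))
  have h3 : ∀ s, C.g s = C.g (ω * s) := fun s => by
    rw [← fix hd hα (C.g_map s)]
    simp only [CE.g, CE.K, ONType.Comm.cm, map_mul, map_inv, h1 1 (by decide), h1 2 (by decide), h2, mul_one]
  have h4 : ∀ z, π z = 1 → z * z = 1 := fun z hz => by
    rcases (hd.ker z).1 hz with rfl | rfl
    · exact mul_one 1
    · exact hd.sq
  have h5 : C.g 1 = C.g ω := h3 1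
  have h6 : C.g ω = C.g ω2 := h3 ω
  have h7 := C.g_w2
  rw [C.f_eq_g, h4 _ (C.g_map _), mul_one, ← h6, ← h5, h4 _ (C.g_map _)] at h7
  obtain ⟨s, hs⟩ := C.exists_g_ne_one hd.perf (Nat.card_eq_two_iff.2 ⟨1, ⟨c, (hd.ker c).2 (.inr rfl)⟩,
    fun e => hd.ne (congrArg Subtype.val e).symm, Set.eq_univ_of_forall fun x =>
      ((hd.ker x).1 x.2).imp Subtype.ext Subtype.ext⟩)
  refine hs ?_
  cases s
  exacts [C.g_zero, h7, h5.symm.trans h7, (h5.trans h6).symm.trans h7]

end l34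

section u62

open Cfsg.Agent.H133.USixTwo Cfsg.Agent.ClassicalGeometry.PSUAutCount Cfsg.Agent.LieClassical.SUBasic
open Cfsg.Agent.ClassicalGeometry.UnitAutBasic (pr pr_surjective)
open scoped Matrix

theorem dlt3 {F : Type} [Field F] [Fintype F] {ω : F} (h0 : ω ≠ 0) (h3 : ω ^ 3 = 1) : dlt ω h0 h3 ^ 3 = 1 := by
  refine MulEquiv.ext fun x => ?_
  obtain ⟨g, rfl⟩ := pr_surjective x
  have h1 : ∀ v : Fin 6 → F, gm (H133.USixTwo.Dg ω h0 h3) *ᵥ (gm (H133.USixTwo.Dg ω h0 h3) *ᵥ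
      (gm (H133.USixTwo.Dg ω h0 h3) *ᵥ v)) = v := fun v => by
    rw [gm_Dg, gm_Dg, gm_Dg]
    funext i
    linear_combination (v i) * dv_cube h3 i
  rw [pow_three', MulAut.mul_apply, MulAut.mul_apply, dlt_pr, dlt_pr, dlt_pr]
  refine congrArg (pr 6 F 2) (LieClassical.HermSiegel.ext_act fun v => ?_)
  conv_lhs => rw [← h1 v]
  refine ((act_dlt _ _).trans (congrArg _ ((act_dlt _ _).trans (congrArg _ (act_dlt _ _))))).trans (h1 _)

end u62

section te62

open Cfsg.Agent.TwoESix.Cox10 Cfsg.Agent.TwoESix.Lift Cfsg.Agent.TwoESix.Cover Cfsg.Agent.R01.Lifts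

/-- the rotation of the arms -/
def rot (i : Fin 10) : Fin 10 := pAB (pAC i)

theorem rot3 : ∀ i, rot (rot (rot i)) = i := by decide

theorem rot_ev {G : Type} [Group G] {s : Fin 10 → G} (hl : M10.IsLiftable s) (hs : ev s spider ^ 10 = 1) :
    M10.IsLiftable (fun i => s (rot i)) ∧ ev (fun i => s (rot i)) spider ^ 10 = 1 ∧
      ev (fun i => s (rot i)) W321 ^ 9 = ev s W213 ^ 9 ∧ ev (fun i => s (rot i)) W231 ^ 9 = ev s W321 ^ 9 ∧
      ev (fun i => s (rot i)) W213 ^ 9 = ev s W231 ^ 9 := by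
  have l1 := lift_perm hl lab_pAB
  have s1 := spider_pAB hl hs
  refine ⟨lift_perm l1 lab_pAC, (spider_pAC l1 s1 :), ?_, ?_, ?_⟩
  · refine (congrArg (· ^ 9) (ev_comp (fun i => s (pAB i)) pAC _)).trans ?_
    rw [pow9_eq l1 chkAC1, W213_eq l1 s1, ev_comp, pow9_eq hl chkAB3, W213_eq hl hs]
  · refine (congrArg (· ^ 9) (ev_comp (fun i => s (pAB i)) pAC _)).trans ?_
    rw [pow9_eq l1 chkAC2, W231_eq l1 s1, ev_comp, pow9_eq hl chkAB2]
  · refine (congrArg (· ^ 9) (ev_comp (fun i => s (pAB i)) pAC _)).trans ?_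
    rw [pow9_eq l1 chkAC3, W321_eq l1 s1, ev_comp, pow9_eq hl chkAB1]

theorem exists_rot {E : Type} [Group E] [Finite HB] {e : Fin 10 → E} (he : Good e) (hgen : _root_.Subgroup.closure (Set.range e) = ⊤)
    (hc : Nat.card HB ≤ Nat.card E) : ∃ δ : MulAut E, δ ^ 3 = 1 ∧ NL δ := by
  obtain ⟨a1, a2, a3, a4, a5⟩ := rot_ev he.lift he.spider
  have he' : Good fun i => e (rot i) := ⟨a1, a2, a3.trans he.e213, a4.trans he.e321, a5.trans he.e231⟩
  have hgen' : _root_.Subgroup.closure (Set.range fun i => e (rot i)) = ⊤ := by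
    rw [← hgen]
    exact congrArg _ (Function.Surjective.range_comp (fun i => ⟨rot (rot i), rot3 i⟩) e)
  let f := MulEquiv.ofBijective _ (toHom_bijective he hgen hc)
  let δ : MulAut E := f.symm.trans (MulEquiv.ofBijective _ (toHom_bijective he' hgen' hc))
  have hδ : ∀ i, δ (e i) = e (rot i) := fun i => by
    show toHom he' (f.symm (e i)) = _
    rw [← toHom_s0 he i, show toHom he (s0 i) = f (s0 i) from rfl, f.symm_apply_apply, toHom_s0]
  refine ⟨δ, MulEquiv.toMonoidHom_injective (MonoidHom.eq_of_eqOn_dense hgen ?_), fun L _ _ π c hd α hα => ?_⟩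
  · rintro _ ⟨i, rfl⟩
    show (δ ^ 3) (e i) = e i
    rw [pow_three', MulAut.mul_apply, MulAut.mul_apply, hδ, hδ, hδ, rot3]
  have X : _root_.Cfsg.Agent.R01.Lifts.Ext π c := ⟨hd.surj, hd.sq, hd.ne, hd.ker, fun x => (hd.cen x).symm⟩
  obtain ⟨m, hm, hl, hs⟩ := exists_cox X he
  obtain ⟨b1, b2, b3, b4, b5⟩ := rot_ev hl hs
  have hk : ∀ w : List (Fin 10), ev e w ^ 9 = 1 → π (ev m w ^ 9) = 1 := fun w hw => by
    rw [map_pow, ev_map, funext hm, hw]
  have h1 : ∀ i, α (m i) = m (rot i) ∨ α (m i) = m (rot i) * c := fun i => by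
    refine ((hd.ker ((m (rot i))⁻¹ * α (m i))).1 (by rw [map_mul, map_inv, hα, hm, hm, hδ, inv_mul_cancel])).imp
      (fun e => (inv_mul_eq_one.1 e).symm) fun e => inv_mul_eq_iff_eq_mul.1 e
  have h2 : ∀ i j, adj i j = true → (α (m i) = m (rot i) ↔ α (m j) = m (rot j)) := by
    have k : ∀ i j, adj i j = true → α (m i) = m (rot i) → α (m j) = m (rot j) := fun i j h e => by
      refine (h1 j).resolve_right fun e' => hd.ne ?_
      have k1 := congrArg α (braid hl h)
      have k2 := braid b1 h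
      simp only [map_mul, e, e'] at k1 k2
      have k3 : m (rot j) * c * m (rot i) * (m (rot j) * c) = m (rot j) * m (rot i) * m (rot j) := by
        rw [mul_assoc (m (rot j)) c, hd.cen, ← mul_assoc, ← mul_assoc, mul_assoc _ c, hd.cen, ← mul_assoc, mul_assoc _ c,
          hd.sq, mul_one]
      rw [k3, ← k2, ← mul_assoc, mul_assoc _ c, hd.cen, ← mul_assoc] at k1
      exact mul_eq_left.1 k1
    exact fun i j h => ⟨k i j h, k j i (adj_symm i j h)⟩
  have h3 : ∀ w : List (Fin 10), ev e w ^ 9 = 1 → ev m w ^ 9 = ev (fun i => α (m i)) w ^ 9 := fun w hw => by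
    rw [← fix hd hα (hk w hw), map_pow]
    exact congrArg (· ^ 9) (ev_map α.toMonoidHom m w)
  have c1 := h3 _ he.e321
  have c2 := h3 _ he.e231
  have c3 := h3 _ he.e213
  have h4 : ev m W321 ^ 9 = ev m W213 ^ 9 ∧ ev m W231 ^ 9 = ev m W321 ^ 9 := by
    by_cases h : α (m 3) = m (rot 3)
    · rw [funext (all_nodes (fun i => α (m i) = m (rot i)) (fun i j a => (h2 i j a).1) h)] at c1 c2
      exact ⟨c1.trans b3, c2.trans b4⟩
    · rw [funext fun i => (h1 i).resolve_left (all_nodes (fun i => ¬ α (m i) = m (rot i))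
        (fun i j a => mt (h2 i j a).2) h i), ev7_mul_z X _ rfl] at c1 c2 c3
      rw [b3] at c1
      rw [b4] at c2
      rw [b5, c2, c1, mul_assoc, mul_assoc, hd.sq, mul_one] at c3
      exact absurd (mul_eq_left.1 c3.symm) hd.ne
  obtain ⟨m', hm', hg⟩ : ∃ m' : Fin 10 → L, (∀ i, π (m' i) = e i) ∧ Good m' := by
    rcases (hd.ker _).1 (hk _ he.e321) with h | h
    · exact ⟨m, hm, hl, hs, h, h4.2.trans h, h4.1.symm.trans h⟩
    · refine ⟨fun i => m i * c, fun i => by rw [map_mul, X.mapz, mul_one, hm], lift_mul_z X hl, spider_mul_z X hs,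
        ?_, ?_, ?_⟩ <;> rw [ev7_mul_z X _ rfl]
      · rw [h, hd.sq]
      · rw [h4.2, h, hd.sq]
      · rw [← h4.1, h, hd.sq]
  have h5 := toHom_surjective hg (KFacts.Mult.TwESixLift.closure_eq_top (π := π) (fun x hx => mem_center_iff.2 fun g => by
    rcases (hd.ker x).1 hx with rfl | rfl
    · rw [one_mul, mul_one]
    · exact (hd.cen g).symm) hd.perf (by rw [funext hm']; exact hgen))
  obtain ⟨y, hy⟩ := h5 c
  have h6 : π.comp (toHom hg) = toHom he := PresentedGroup.ext fun i => by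
    show π (toHom hg (s0 i)) = toHom he (s0 i)
    rw [toHom_s0, toHom_s0, hm']
  have h7 : toHom he y = 1 := by
    rw [← h6, MonoidHom.comp_apply, hy, X.mapz]
  rw [(injective_iff_map_eq_one _).1 (toHom_bijective he hgen hc).1 y h7, map_one] at hy
  exact hd.ne hy.symm

end te62

/-- **`L₃(4)`** -/
theorem n3_l34 {F : Type} [Field F] [Fintype F] (hF : Fintype.card F = 4) :
    N3 (Matrix.ProjectiveSpecialLinearGroup (Fin 3) F) := fun X _ _ m φ c => by
  obtain ⟨e⟩ := SporadicA.FieldFour.nonempty_psl_equiv (n := Fin 3) F hF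
  have := H163.PG.finite_psl (F := SporadicA.FieldFour.F4) 3
  refine n3_of (δ := dl) ?_ (MulEquiv.ext del3) nl_dl X m _ (c.comp e.symm)
  rw [show (Inn _).index = _ from H163.PG.card_out_psl (f := 2) Nat.prime_two (by decide)
    SporadicA.FieldFour.F4.card_eq le_rfl (cen_bot (c.comp e.symm)), SporadicA.FieldFour.F4.card_eq]
  decide

/-- **`U₆(2)`** -/
theorem n3_u62 {F : Type} [Field F] [Fintype F] (hF : Fintype.card F = 2 ^ 2) : N3 (PSU 6 F 2) := by
  obtain ⟨ω, hω⟩ := SporadicStructure.UnitTwo.exists_omega hF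
  have h0 : ω ≠ 0 := by
    rintro rfl
    simp at hω
  have h3 : ω ^ 3 = 1 := by linear_combination (ω - 1) * hω
  refine n3_of (δ := H133.USixTwo.dlt ω h0 h3) ?_ (dlt3 h0 h3) fun L _ _ π c hd α hα =>
    H133.USixTwo.no_iso hF hd hω h0 h3 ⟨α⁻¹, fun x => by rw [← hα]; exact congrArg π (α.apply_symm_apply x)⟩
  rw [TwoESix.SheetPSU.index_PSU hF]
  decide

theorem outC_u62 {F : Type} [Field F] [Fintype F] (hF : Fintype.card F = 2 ^ 2) {m : ℕ} (hm : 2 ∣ m) :
    OutC m (PSU 6 F 2) := (n3_u62 hF).outC (TwoESix.SheetPSU.index_PSU hF).dvd hm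

/-- **`²E₆(2)`** -/
theorem n3_e62 {K : Type} [Field K] [Fintype K] (hK : Fintype.card K = 4) : N3 ↥(Lie.twistedE6 K 2) := by
  have := BM.HBFinal.finite_HB
  have : Finite ↥(Lie.twistedE6 K 2) := Nat.finite_of_card_ne_zero (by rw [BM.HBFinal.card_E K hK]; norm_num)
  obtain ⟨e, r, he, hgen, -⟩ := TwoESix.GoodInst.exists_good K hK
  obtain ⟨δ, h1, h2⟩ := exists_rot he hgen (BM.HBFinal.hcard K hK)
  exact n3_of (fun h => absurd (h.trans (TwoESix.SheetMain.index_of_equiv hK (MulEquiv.refl _))) (by decide)) h1 h2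

theorem outC_e62 {K : Type} [Field K] [Fintype K] (hK : Fintype.card K = 4) {m : ℕ} (hm : 2 ∣ m) :
    OutC m ↥(Lie.twistedE6 K 2) := (n3_e62 hK).outC (TwoESix.SheetMain.index_of_equiv hK (MulEquiv.refl _)) hm

end Cfsg.Agent.MO.XC
end

-- part: MO/S/E62S/Out
section
/-!
# MO, `²E₆(2)` : the outer automorphisms invert the centre of the triple cover (helper63)

* `exists_swap` : the exchange of two arms; `out_Y` : it is the outer automorphism of `Y`;
* `inv_three` : the outer automorphisms of `Y` invert the centre of the triple cover; `noOut6`.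
-/

set_option autoImplicit false

namespace Cfsg.Agent.MO.S.E62S

open Cfsg Subgroup Cfsg.Lie Cfsg.Agent.H68.Bounds Cfsg.Agent.H133.FibPce Cfsg.Agent.MO.S.E62C
open Cfsg.Agent.H66.TwESixCover Cfsg.Agent.TwoESix Cfsg.Agent.TwoESix.Cox10 Cfsg.Agent.TwoESix.Cover Cfsg.Agent.TwoESix.Lift

/-- exchange the last two arms -/
def pBC : Fin 10 → Fin 10 := ![0, 1, 2, 3, 7, 8, 9, 4, 5, 6]

theorem lab_pBC : ∀ i j : Fin 10, lab (pBC i) (pBC j) = lab i j := by decide +kernel
theorem pBC_pBC : ∀ i : Fin 10, pBC (pBC i) = i := by decide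
theorem chkBC : chk (rep 9 (W321.map pBC)) (rep 9 W312) = true ∧ chk (rep 9 (W231.map pBC)) (rep 9 W213) = true ∧
    chk (rep 9 (W213.map pBC)) (rep 9 W231) = true ∧ chk (rep 9 W231 ++ rep 9 W231) [] = true ∧
    chk (rep 9 W213 ++ rep 9 W213) [] = true := by decide +kernel

variable {G : Type} [Group G]

theorem zrels_swap {s : Fin 10 → G} {z : G} (h : ZRels s z) : ZRels (fun i => s (pBC i)) z :=
  ⟨lift_perm h.lift lab_pBC, by rw [ev_comp]; exact spiderBC_one h.lift h.spider,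
    by rw [ev_comp, pow9_eq h.lift chkBC.1, h.e312], by rw [ev_comp, pow9_eq h.lift chkBC.2.1, h.e213],
    by rw [ev_comp, pow9_eq h.lift chkBC.2.2.1, h.e231]⟩

theorem top_swap {s : Fin 10 → G} (h : _root_.Subgroup.closure (Set.range s) = ⊤) : closure (Set.range fun i => s (pBC i)) = ⊤ :=
  h ▸ congrArg _ (Function.Surjective.range_comp (fun i => ⟨pBC i, pBC_pBC i⟩) s)

variable {pG : G →* HB}

/-- a lift of the exchange of the arms inverts an element of order three -/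
theorem swap_three (vG : Cv 3 pG) {γ : MulAut G} {σ : MulAut HB} (hσ : ∀ i, σ (s0 i) = s0 (pBC i))
    (h : ∀ g, pG (γ g) = σ (pG g)) : ∀ z ∈ center G, γ z = z⁻¹ := by
  have := BM.HBFinal.finite_HB
  have : Fact (Nat.Prime 3) := ⟨Nat.prime_three⟩
  have h1 : ∀ c, pG c = 1 → c ∈ center G ∧ c ^ 3 = 1 := fun c hc =>
    ⟨vG.ker.le hc, congrArg Subtype.val (vG.card ▸ pow_card_eq_one' (x := (⟨c, vG.ker.le hc⟩ : center G)))⟩
  have h2 : ∀ c, pG c = 1 → c * c = 1 → c = 1 := fun c hc e => by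
    have h3 := (h1 c hc).2
    rwa [pow_succ, pow_two, e, one_mul] at h3
  choose g hg using fun i => vG.surj (s0 i)
  let m : Fin 10 → G := fun i => g i ^ 3
  have h3 : ∀ i, pG (m i) = s0 i := fun i => by rw [map_pow, hg, pow_succ, pow_two, Cox10.sq good_s0.lift, one_mul]
  have h4 : ∀ i, m i * m i = 1 := fun i => by
    rw [← (Commute.refl (g i)).mul_pow]
    exact (h1 _ (by rw [map_mul, hg, Cox10.sq good_s0.lift])).2
  have h5 : M10.IsLiftable m := fun i j => by
    have h6 : pG ((m i * m j) ^ M10 i j) = 1 := by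
      rw [map_pow, map_mul, h3, h3]
      exact good_s0.lift i j
    refine h2 _ h6 ?_
    have h7 : m i * (m i * m j) * (m i)⁻¹ = (m i * m j)⁻¹ := by
      rw [← mul_assoc, h4, one_mul, mul_inv_rev, inv_eq_of_mul_eq_one_left (h4 j)]
    have h8 := congrArg (· ^ M10 i j) h7
    beta_reduce at h8
    rw [conj_pow, mem_center_iff.1 (h1 _ h6).1, mul_inv_cancel_right, inv_pow] at h8
    exact mul_eq_one_iff_eq_inv.2 h8
  have h6 : ∀ (w : List (Fin 10)) (k : ℕ), ev s0 w ^ k = 1 → pG (ev m w ^ k) = 1 := fun w k e => by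
    rw [map_pow, ev_map, funext h3, e]
  have h7 : ∀ w : List (Fin 10), ev s0 w ^ 9 = 1 → chk (rep 9 w ++ rep 9 w) [] = true → ev m w ^ 9 = 1 := fun w e c => by
    have h8 := ev_eq_ev h5 c
    rw [ev_append, ev_rep, ev_nil] at h8
    exact h2 _ (h6 w 9 e) h8
  have h8 : ev m spider ^ 10 ≠ 1 := fun e => by
    have h9 := Nat.card_le_card_of_surjective _ (toHom_surjective
      ⟨h5, e, h7 _ good_s0.e321 chk_sq1, h7 _ good_s0.e231 chkBC.2.2.2.1, h7 _ good_s0.e213 chkBC.2.2.2.2⟩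
      (KFacts.Mult.TwESixLift.closure_eq_top vG.ker.le vG.perf (by rw [funext h3]; exact closure_s0)))
    rw [card_of_cv vG, card_HB] at h9
    omega
  have h9 : ∀ i, γ (m i) = m (pBC i) := fun i => by
    have h10 : pG ((m (pBC i))⁻¹ * γ (m i)) = 1 := by rw [map_mul, map_inv, h, h3, h3, hσ, inv_mul_cancel]
    refine (inv_mul_eq_one.1 (h2 _ h10 ?_)).symm
    rw [← mul_assoc, ← mem_center_iff.1 (h1 _ h10).1, mul_assoc, mul_assoc, ← map_mul, h4, map_one, mul_one, ← mul_inv_rev, h4,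
      inv_one]
  have h10 := (h1 _ (h6 _ _ good_s0.spider)).1
  have h11 : γ (ev m spider ^ 10) = (ev m spider ^ 10)⁻¹ := by
    have h12 := ev_eq_ev h5 chk_BC
    rw [ev_append, ev_append, ev_rep, ev_rep, ev_reverse h5, show ev m [2, 3, 2, 5, 8] = _ from ev_reverse h5 [8, 5, 2, 3, 2],
      inv_pow, mem_center_iff.1 (inv_mem h10), mul_inv_cancel_right] at h12
    rw [map_pow, show γ (ev m spider) = _ from ev_map γ.toMonoidHom m spider,
      show (fun i => γ.toMonoidHom (m i)) = _ from funext h9, ev_comp]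
    exact h12
  intro z hz
  obtain ⟨k, hk⟩ := mem_zpowers_of_prime_card vG.card (g := ⟨_, h10⟩) (g' := ⟨z, hz⟩) fun e => h8 (congrArg Subtype.val e)
  rw [← show (ev m spider ^ 10) ^ k = z from congrArg Subtype.val hk, map_zpow, h11, inv_zpow]

theorem exists_ne (vG : Cv 3 pG) : ∃ z ∈ center G, z⁻¹ ≠ z := by
  have : Fact (Nat.Prime 3) := ⟨Nat.prime_three⟩
  have : Finite (center G) := Nat.finite_of_card_ne_zero (by rw [vG.card]; decide)
  obtain ⟨z, hz⟩ := exists_prime_orderOf_dvd_card' (G := center G) 3 vG.card.symm.dvd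
  refine ⟨z, z.2, fun e => ?_⟩
  have h1 : z ^ 2 = 1 := Subtype.ext (by rw [coe_pow, pow_two]; exact (inv_eq_iff_mul_eq_one.1 e :))
  rw [← orderOf_dvd_iff_pow_eq_one, hz] at h1
  exact absurd h1 (by decide)

theorem exists_swap : ∃ (τ : MulAut Y) (σ : MulAut HB), (∀ y, pY (τ y) = σ (pY y)) ∧ ∀ i, σ (s0 i) = s0 (pBC i) := by
  have := BM.HBFinal.finite_HB
  obtain ⟨τ, h1, -⟩ := exists_mulEquiv zrels_sY (zrels_swap zrels_sY) closure_sY (top_swap closure_sY)
    (by rw [card_Y, card_HB]) (by rw [card_Y, card_HB])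
  obtain ⟨ρ, h2, -⟩ := TI.exists_rho cvY
  exact ⟨τ, ρ τ, fun y => (h2 τ y).symm, fun i => by rw [← pY_sY, h2, h1, pY_sY]⟩

theorem index_dvd {X : Type} [Group X] [Finite X] {m : ℕ} {φ : X →* HB} (v : Cv m φ) (hm : 2 ∣ m) : (Inn X).index ∣ 2 := by
  obtain ⟨K, _, _, hK⟩ := exists_four
  obtain ⟨e⟩ := eqv K hK
  exact ((XC.n3_e62 hK).congr e).index_dvd (SheetMain.index_of_equiv hK e) v hm

theorem mul_inn {X : Type} [Group X] (h : (Inn X).index ∣ 2) {α β : MulAut X} (h1 : ¬ ∃ x, α = MulAut.conj x)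
    (h2 : ¬ ∃ x, β = MulAut.conj x) : ∃ x, α = MulAut.conj x * β := by
  have h3 : ∀ α : MulAut X, (¬ ∃ x, α = MulAut.conj x) → α ∉ Inn X := fun α e ⟨x, hx⟩ => e ⟨x, hx.symm⟩
  obtain ⟨x, hx⟩ := (mul_mem_iff_of_index_two (((Nat.dvd_prime Nat.prime_two).1 h).resolve_left fun e =>
    h3 α h1 (index_eq_one.1 e ▸ mem_top α))).2 (iff_of_false (h3 α h1) fun e => h3 β h2 (inv_mem_iff.1 e))
  exact ⟨x, by rw [hx, inv_mul_cancel_right]⟩

/-- **the outer automorphisms of `Y` invert the centre of the triple cover** -/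
theorem inv_three [Finite G] (vG : Cv 3 pG) {α : MulAut Y} (hα : ¬ ∃ y, α = MulAut.conj y) :
    ∃ γ : MulAut G, (∀ y g, pY y = pG g → pY (α y) = pG (γ g)) ∧ ∀ z ∈ center G, γ z = z⁻¹ := by
  have := finite_Y
  obtain ⟨τ, σ, h1, h2⟩ := exists_swap
  obtain ⟨γ, h3⟩ := iso3 vG (vG.comp σ)
  have h4 := swap_three vG h2 h3
  obtain ⟨y, rfl⟩ := mul_inn (index_dvd cvY dvd_rfl) hα (β := τ) (by
    rintro ⟨y, rfl⟩
    obtain ⟨g, rfl⟩ := T.inn_of_ind vG (α := γ) (s := pY y) fun g => by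
      obtain ⟨x, hx⟩ := cvY.surj (pG g)
      rw [h3, show σ.toMonoidHom.comp pG g = σ (pG g) from rfl, ← hx, ← h1]
      simp only [_root_.MulAut.conj_apply, _root_.map_mul, _root_.map_inv]
    obtain ⟨z, hz, h5⟩ := exists_ne vG
    exact h5 (by rw [← h4 z hz, MulAut.conj_apply, mem_center_iff.1 hz, mul_inv_cancel_right]))
  obtain ⟨c, hc⟩ := vG.surj (pY y)
  refine ⟨MulAut.conj c * γ, fun x g e => ?_, fun z hz => ?_⟩
  · simp only [MulAut.mul_apply, MulAut.conj_apply, map_mul, map_inv, h1, h3, hc, e]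
    rfl
  · rw [MulAut.mul_apply, h4 z hz, MulAut.conj_apply, mem_center_iff.1 (inv_mem hz), mul_inv_cancel_right]

theorem noOut : NoOut 6 HB := fun X _ _ φ v α hα => by
  have := finite_Y
  obtain ⟨G, _, r, pG, hr, -, -, vG⟩ := cv_quot (a := 3) (b := 2) v
  have := Finite.of_surjective r hr
  obtain ⟨e, -⟩ := iso6 vG v
  obtain ⟨τ, σ, h1, h2⟩ := exists_swap
  obtain ⟨γ, h3⟩ := iso3 vG (vG.comp σ)
  let f : fib pY pG →* fib pY pG :=
    ((τ.toMonoidHom.prodMap γ.toMonoidHom).comp (Subgroup.subtype _)).codRestrict _ fun x => by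
      show pY (τ x.1.1) = pG (γ x.1.2)
      rw [h1, h3, show pY x.1.1 = pG x.1.2 from x.2]
      rfl
  let β : MulAut (fib pY pG) := MulEquiv.ofBijective f (Finite.injective_iff_bijective.1 fun x y h => Subtype.ext (Prod.ext
    (τ.injective (congrArg (fun u : fib pY pG => u.1.1) h)) (γ.injective (congrArg (fun u : fib pY pG => u.1.2) h))))
  obtain ⟨z, hz, h4⟩ := exists_ne vG
  let w : fib pY pG := ⟨(1, z), (map_one pY).trans (vG.ker.ge hz).symm⟩
  have h5 : w ∈ center (fib pY pG) := (cv6 vG).ker.le (map_one pY)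
  have h6 : ∀ x, MulAut.conj x⁻¹ w ≠ β w := fun x h => h4 (by
    rw [MulAut.conj_apply, mem_center_iff.1 h5, mul_inv_cancel_right] at h
    exact (swap_three vG h2 h3 z hz).symm.trans (congrArg (fun u : fib pY pG => u.1.2) h).symm)
  by_contra h7
  obtain ⟨x, hx⟩ := mul_inn (index_dvd (cv6 vG) (by decide)) (T.not_inn_congr e h7) (β := β) fun ⟨x, hx⟩ =>
    h6 x⁻¹ (by rw [hx, inv_inv])
  have h8 := T.congr_app e α (e.symm w)
  rw [hα _ ((T.mem_center_congr e.symm w).2 h5), e.apply_symm_apply, hx, MulAut.mul_apply] at h8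
  exact h6 x ((congrArg (MulAut.conj x⁻¹) h8).symm.trans (by rw [map_inv, MulAut.inv_apply_self]))

/-- **the sixfold cover** -/
theorem noOut6 (K : Type) [Field K] [Fintype K] (hK : Fintype.card K = 4) : NoOut 6 ↥(twistedE6 K 2) :=
  (eqv K hK).elim fun e => NoOut.congr e.symm noOut

end Cfsg.Agent.MO.S.E62S
end

private theorem dce_2e3230e51610 : _root_.True := by
  try have : _root_.True := by simp only [_root_.Cfsg.Agent.OddHalf.D9.L34Mult.CE.g.eq_1]
  try have : _root_.True := by simp only [_root_.Cfsg.Agent.ONType.Comm.cm.eq_1]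
  exact _root_.True.intro
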